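import Groth.Agent.CohDer1.GroupOmega
import Groth.Agent.PicLib.BasisOn
import Groth.Agent.AbDualLib.Basic
import Groth.Agent.H8Lim.ModSections
import Groth.Agent.FlatMorAdm.LocFreeApps
import Groth.Agent.AbVarLib.MulIsogeny
import Groth.Agent.AbVarLib.GeomIntegralSmooth
import Groth.Agent.S5018
import Groth.Agent.Omega15.ConormalSmooth

/-!
# Invariant differentials of proper group schemes with geometrically reduced connected fibres
-/

set_option autoImplicit false
set_option backward.isDefEq.respectTransparency.types false
set_option maxHeartbeats 1000000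

universe u

open CategoryTheory CategoryTheory.Limits MonoidalCategory CartesianMonoidalCategory MonObj AlgebraicGeometry Opposite
open Groth.Agent.PicLib

namespace Groth.Agent.InvDiff27

/-- An isomorphism of modules is bijective on sections. -/
theorem bijective_app_of_iso {T : Scheme.{u}} {P Q : T.Modules} (e : P ≅ Q) (U : T.Opens) :
    Function.Bijective (e.hom.app U) := ConcreteCategory.bijective_of_isIso _

/-- For a section `e` of `f` with `f_*O = O`, sections of `f^*M` are those of `M`, through `e`. -/
theorem bijective_pullSec_section {X S : Scheme.{u}} (f : X ⟶ S) (e : S ⟶ X) (he : e ≫ f = 𝟙 S)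
    (hO : ∀ V : S.Opens, Function.Bijective (f.app V)) {M : S.Modules} (hM : FlatMod.IsFinLocFree M)
    {Ω : X.Modules} (i : Ω ≅ (Scheme.Modules.pullback f).obj M) :
    Function.Bijective (pullSec e : Γ(Ω, ⊤) → _) := by
  have h1 : Function.Bijective (pullSec f : Γ(M, ⊤) → _) := bijective_pullSec_of_isFinLocFree f hO hM ⊤
  have h2 : Function.Bijective (pullSec (e ≫ f) : Γ(M, ⊤) → _) :=
    bijective_pullSec_of_isFinLocFree (e ≫ f) (by rw [he]; exact fun V => Function.bijective_id) hM ⊤
  have h3 : Function.Bijective
      (pullSec e : Γ((Scheme.Modules.pullback f).obj M, f ⁻¹ᵁ ⊤) → _) := by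
    refine (Function.Bijective.of_comp_iff _ h1).1 ?_
    refine (Function.Bijective.of_comp_iff'
      (bijective_app_of_iso ((Scheme.Modules.pullbackComp e f).app M) ((e ≫ f) ⁻¹ᵁ ⊤)) _).1 ?_
    exact cast (congrArg Function.Bijective
      (funext fun g => (H8Lim.pullbackComp_hom_app_pullSec e f M g).symm)) h2
  refine (Function.Bijective.of_comp_iff'
    (bijective_app_of_iso ((Scheme.Modules.pullback e).mapIso i) (e ⁻¹ᵁ ⊤)) _).1 ?_
  exact cast (congrArg Function.Bijective
    (funext fun g => congr(($((Scheme.Modules.pullbackPushforwardAdjunction e).unit.naturality i.hom)).app ⊤ g)))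
    (h3.comp (bijective_app_of_iso i ⊤))

variable {S : Scheme.{u}} (A : Over S) [GrpObj A] [IsProper A.hom] [Flat A.hom] [LocallyOfFinitePresentation A.hom]
  [GeometricallyReduced A.hom] [GeometricallyConnected A.hom]

/-- The module of differentials at the origin is finite locally free. -/
theorem isFinLocFree_cotangent :
    FlatMod.IsFinLocFree ((Scheme.Modules.pullback η[A].left).obj (Omega.sheaf A.hom)) := by
  haveI : Smooth A.hom := AbVarLib.smooth_of_geometricallyReduced A
  exact FlatMorAdm.isFinLocFree_pullback _ (S5018.result A.hom (Omega15.isFormallySmoothHom_of_smooth A.hom) _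
    (OmegaSh.dOmega A.hom) (OmegaLib.isUniversal_dOmega A.hom))

/-- The structure map of `A` on functions. -/
theorem bijective_app (V : S.Opens) : Function.Bijective (A.hom.app V) :=
  AbDualLib.bijective_app_of_section A.hom η[A].left (Over.w η[A]) V

/-- Global differentials are determined at the origin. -/
theorem bijective_unit :
    Function.Bijective (pullSec η[A].left : Γ(Omega.sheaf A.hom, ⊤) → _) :=
  bijective_pullSec_section A.hom η[A].left (Over.w η[A]) (bijective_app A) (isFinLocFree_cotangent A)
    (CohDer1.GroupOmega.nonempty_omega_iso_pullback A).some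

/-- The direct image of the differentials is the cotangent module at the origin. -/
theorem nonempty_push_iso : Nonempty ((Scheme.Modules.pushforward A.hom).obj (Omega.sheaf A.hom) ≅
    (Scheme.Modules.pullback η[A].left).obj (Omega.sheaf A.hom)) := by
  let M := (Scheme.Modules.pullback η[A].left).obj (Omega.sheaf A.hom)
  let u : M ⟶ _ := (Scheme.Modules.pullbackPushforwardAdjunction A.hom).unit.app M
  haveI : ∀ U, IsIso (u.app U) := fun U => (ConcreteCategory.isIso_iff_bijective _).2
    (bijective_pullSec_of_isFinLocFree A.hom (bijective_app A) (isFinLocFree_cotangent A) U)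
  haveI : IsIso u := Scheme.Modules.Hom.isIso_iff_isIso_app.2 inferInstance
  exact ⟨(Scheme.Modules.pushforward A.hom).mapIso (CohDer1.GroupOmega.nonempty_omega_iso_pullback A).some ≪≫
    (asIso u).symm⟩

end Groth.Agent.InvDiff27
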